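import Groth.Agent.GrTildeLib.Chart
import Groth.Agent.GrTildeLib.Twist
import Groth.Agent.DegPullLib.H0
import Mathlib.RingTheory.MvPolynomial.Ideal
import Groth.Agent.GradedCechLib.Chart

/-!
# Global sections of `O(d)` on projective space
-/

set_option autoImplicit false
universe u

open CategoryTheory CategoryTheory.Limits AlgebraicGeometry TopologicalSpace Opposite
open HomogeneousLocalization MvPolynomial
open GrTildeLib (val)

noncomputable section

namespace ProjSecLib

variable {R : Type u} [CommRing R] {n d : ℕ}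

local notation "𝒮" => CohB1.polyGrading n R

lemma X_mem (i : Fin (n + 1)) : (X i : MvPolynomial (Fin (n + 1)) R) ∈ 𝒮 1 := isHomogeneous_X R i

lemma cover (x : Proj 𝒮) : ∃ i, x ∈ Proj.basicOpen 𝒮 (X i) := by
  by_contra h
  push Not at h
  refine x.not_irrelevant_le fun a ha => ?_
  have hle : Ideal.span (Set.range (X : Fin (n + 1) → MvPolynomial (Fin (n + 1)) R)) ≤
      x.asHomogeneousIdeal.toIdeal := Ideal.span_le.mpr (by rintro _ ⟨i, rfl⟩; exact not_not.mp (h i))
  classical
  refine hle ?_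
  rw [← Set.image_univ, mem_ideal_span_X_image]
  intro e he
  by_contra h0
  push Not at h0
  obtain rfl : e = 0 := Finsupp.ext fun i => h0 i (Set.mem_univ i)
  refine (mem_support_iff.mp he) ?_
  rw [← DirectSum.sum_support_decompose 𝒮 a, coeff_sum]
  refine Finset.sum_eq_zero fun j _ => ?_
  by_contra hne
  obtain rfl : j = 0 := by
    simpa using ((DirectSum.decompose 𝒮 a j).2 hne).symm
  have h00 : ((DirectSum.decompose 𝒮 a 0 : 𝒮 0) : MvPolynomial (Fin (n + 1)) R) = 0 := by
    have := (HomogeneousIdeal.mem_irrelevant_iff 𝒮 a).mp ha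
    rwa [GradedRing.proj_apply] at this
  rw [h00, coeff_zero] at hne
  exact hne rfl

/-- a homogeneous polynomial of degree `k + d` divisible by `X i ^ k` after multiplication by powers
of the other variables is divisible -/
theorem exists_eq_pow_mul {k : Fin (n + 1) → ℕ} {m : Fin (n + 1) → MvPolynomial (Fin (n + 1)) R}
    (hm : ∀ i, m i ∈ 𝒮 (k i + d)) (h : ∀ i j, X j ^ k j * m i = X i ^ k i * m j) (i : Fin (n + 1)) :
    ∃ a ∈ 𝒮 d, m i = X i ^ k i * a := by
  classical
  have hdvd : monomial (Finsupp.single i (k i)) 1 ∣ m i := by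
    rw [monomial_one_dvd_iff_modMonomial_eq_zero]
    ext e
    rw [coeff_zero]
    by_cases he : Finsupp.single i (k i) ≤ e
    · exact coeff_modMonomial_of_le _ he
    rw [coeff_modMonomial_of_not_le _ he]
    by_contra hne
    apply he
    rw [Finsupp.single_le_iff]
    by_cases hj : ∃ j, j ≠ i
    · obtain ⟨j, hji⟩ := hj
      have hc := congrArg (coeff (Finsupp.single j (k j) + e)) (h i j)
      rw [X_pow_eq_monomial, coeff_monomial_mul, one_mul, X_pow_eq_monomial, coeff_monomial_mul'] at hc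
      split_ifs at hc with hle
      · have := (Finsupp.single_le_iff.mp hle)
        rwa [Finsupp.add_apply, Finsupp.single_eq_of_ne hji.symm, zero_add] at this
      · exact absurd hc hne
    · push Not at hj
      have hdeg := (hm i) hne
      rw [Finsupp.weight_apply, Finsupp.sum_fintype _ _ (by simp), Finset.sum_eq_single i] at hdeg
      · simp at hdeg; omega
      · exact fun j _ hji => absurd (hj j) hji
      · exact fun hi => absurd (Finset.mem_univ i) hi
  obtain ⟨a, ha⟩ := hdvd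
  rw [← X_pow_eq_monomial] at ha
  refine ⟨a, fun e he => ?_, ha⟩
  have h1 : coeff (Finsupp.single i (k i) + e) (m i) ≠ 0 := by
    rw [ha, X_pow_eq_monomial, coeff_monomial_mul, one_mul]; exact he
  have h2 := hm i h1
  rw [map_add, Finsupp.weight_single] at h2
  simp at h2 ⊢
  omega

theorem globalOf_injective :
    Function.Injective fun a : 𝒮 d => (show Γ(Twist.twist 𝒮 (d : ℤ), ⊤) from Twist.globalOf 𝒮 a) := by
  intro a b hab
  let one : ∀ x : ProjectiveSpectrum 𝒮, x.asHomogeneousIdeal.toIdeal.primeCompl := fun x =>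
    ⟨1, fun h => x.isPrime.ne_top ((Ideal.eq_top_iff_one _).mpr h)⟩
  have hz : ∀ (x : ProjectiveSpectrum 𝒮) (hx : (X 0 : MvPolynomial _ R) ∉ x.asHomogeneousIdeal),
      (LocalizedModule.mk (a : MvPolynomial (Fin (n + 1)) R) (one x) :
        GrTilde.LocMod 𝒮 (M := MvPolynomial (Fin (n + 1)) R) x) =
        LocalizedModule.mk (b : MvPolynomial (Fin (n + 1)) R) (one x) :=
    fun x _ => congrArg (fun t => TwistLib.val t (⟨x, trivial⟩ : (⊤ : (Proj 𝒮).Opens))) hab
  obtain ⟨N, hN⟩ := GrTildeLib.exists_pow_smul_eq (s := 1) (s' := 1) (p := d) one_pos (X_mem (R := R) (n := n) 0)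
    (by rw [one_smul]; exact a.2) (by rw [one_smul]; exact b.2)
    (fun x _ h => x.isPrime.ne_top ((Ideal.eq_top_iff_one _).mpr h))
    (fun x _ h => x.isPrime.ne_top ((Ideal.eq_top_iff_one _).mpr h)) hz
  simp only [smul_eq_mul, one_mul] at hN
  exact Subtype.ext ((isRegular_X_pow N).left hN)

theorem globalOf_surjective (t : Γ(Twist.twist 𝒮 (d : ℤ), ⊤)) :
    ∃ a : 𝒮 d, Twist.globalOf 𝒮 a = t := by
  have hc : ∀ i : Fin (n + 1), ∃ (k : ℕ) (m : MvPolynomial (Fin (n + 1)) R), m ∈ 𝒮 (k + d) ∧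
      ∀ x : Proj.basicOpen 𝒮 (X i), TwistLib.val t ⟨x.1, trivial⟩ =
        Localization.mk m ⟨X i ^ k, GrTildeLib.pow_nin x k⟩ := by
    intro i
    obtain ⟨k, p, m, hm, hp, hv⟩ := GrTildeLib.exists_eq_frac (ℳ := 𝒮) (n := (d : ℤ)) one_pos (X_mem i)
      (GrTildeLib.toTilde (AmpleLib.res (Twist.twist 𝒮 (d : ℤ)) (le_top : Proj.basicOpen 𝒮 (X i) ≤ ⊤) t))
    obtain rfl : p = k + d := by omega
    exact ⟨k, m, hm, fun x => hv x⟩
  choose k m hm hv using hc
  have hij : ∀ i j, X j ^ k j * m i = X i ^ k i * m j := by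
    intro i j
    have h1 : ∀ (a b : Fin (n + 1)), X b ^ k b • m a ∈ 𝒮 (k b + (k a + d)) := fun a b =>
      SetLike.mul_mem_graded (by simpa using SetLike.pow_mem_graded (k b) (X_mem b)) (hm a)
    obtain ⟨N, hN⟩ := GrTildeLib.exists_pow_smul_eq (p := k j + (k i + d)) (m := m i) (m' := m j)
      (s := X i ^ k i) (s' := X j ^ k j) (show 0 < 1 + 1 by norm_num)
      (SetLike.mul_mem_graded (X_mem (R := R) (n := n) i) (X_mem j)) (h1 i j)
      (by rw [add_left_comm]; exact h1 j i)
      (fun x hx h => hx (Ideal.mul_mem_right _ _ (x.isPrime.mem_of_pow_mem _ h)))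
      (fun x hx h => hx (Ideal.mul_mem_left _ _ (x.isPrime.mem_of_pow_mem _ h)))
      (fun x hx => (hv i ⟨x, fun h => hx (Ideal.mul_mem_right _ _ h)⟩).symm.trans
        (hv j ⟨x, fun h => hx (Ideal.mul_mem_left _ _ h)⟩))
    simp only [smul_eq_mul, mul_pow] at hN
    exact ((isRegular_X_pow N).mul (isRegular_X_pow N)).left hN
  choose a ha hma using exists_eq_pow_mul hm hij
  have haa : ∀ i, a i = a 0 := fun i => by
    have h := hij i 0
    rw [hma i, hma 0, mul_left_comm (X i ^ k i) (X 0 ^ k 0)] at h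
    exact (isRegular_X_pow (k i)).left ((isRegular_X_pow (k 0)).left h)
  refine ⟨⟨a 0, ha 0⟩, TwistLib.sec_ext fun x => ?_⟩
  obtain ⟨i, hi⟩ := cover x.1
  refine Eq.trans ?_ (hv i ⟨x.1, hi⟩).symm
  show Localization.mk (a 0) _ = _
  rw [hma i, haa i, Localization.mk_eq_mk_iff, Localization.r_iff_exists]
  exact ⟨1, by simp⟩

/-- scalars of the base act on forms by constants -/
theorem globalOf_smul (r : R) (a : 𝒮 d) :
    (Twist.globalOf 𝒮 (r • a) : Γ(Twist.twist 𝒮 (d : ℤ), ⊤)) =
      (show Γ(Proj 𝒮, ⊤) from Coh.toGlobal (CohB1.ProjSpace.toSpec n R) r) •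
        (show Γ(Twist.twist 𝒮 (d : ℤ), ⊤) from Twist.globalOf 𝒮 a) := by
  refine TwistLib.sec_ext fun x => ?_
  refine Eq.trans ?_ (TwistLib.val_smul _ _ x).symm
  obtain ⟨i, hi⟩ := cover x.1
  have h1 := GradedCechLib.deh_C n R i r
  have h2 : GradedCechLib.deh₀ n R i (MvPolynomial.C r) =
      Away.mk 𝒮 (X_mem i) 0 (MvPolynomial.C r) (by simpa using isHomogeneous_C _ r) := by
    refine HomogeneousLocalization.val_injective _ ?_
    rw [GradedCechLib.deh₀, eval₂Hom_C, GradedCechLib.val_cst, Away.val_mk, ← Localization.mk_one_eq_algebraMap]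
    congr 1
  have h3 : ((show Twist.O (op (Proj.basicOpen 𝒮 (X i))) from GradedCechLib.deh n R i (MvPolynomial.C r)).1 ⟨x.1, hi⟩).val =
      Localization.mk (MvPolynomial.C r) ⟨(X i) ^ 0, GrTildeLib.pow_nin (⟨x.1, hi⟩ : Proj.basicOpen 𝒮 (X i)) 0⟩ := by
    refine Eq.trans ?_ (GrTildeLib.val_awayToSection (X_mem i) (by simpa using isHomogeneous_C _ r) ⟨x.1, hi⟩)
    rw [← h2]
    rfl
  rw [h1] at h3
  refine Eq.trans ?_ (congrArg (· * TwistLib.val (show Γ(Twist.twist 𝒮 (d : ℤ), ⊤) from Twist.globalOf 𝒮 a) x) h3).symm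
  show Localization.mk (r • (a : MvPolynomial (Fin (n + 1)) R)) _ = Localization.mk _ _ * Localization.mk _ _
  rw [Localization.mk_mul, MvPolynomial.smul_eq_C_mul]
  congr 1
  exact Subtype.ext (by simp)

end ProjSecLib

end
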