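import Groth.Agent.ProjSecLib.Gamma
import Groth.Agent.ProjSecLib.MapTwist
import Groth.Agent.GenusZeroLib.Zeros
import Groth.Agent.GenusZeroLib.PSpace
import Groth.Prelude.Def_PicF2
import Mathlib.AlgebraicGeometry.IdealSheaf.Functorial

/-!
# Hyperplanes in projective space
-/

set_option autoImplicit false
universe u

open CategoryTheory CategoryTheory.Limits AlgebraicGeometry TopologicalSpace Opposite
open AmpleLib MvPolynomial

noncomputable section

namespace ProjSecLib

section

variable {X : Scheme.{u}} {L : X.Modules} (s : Coh.structureModule X ⟶ L)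

/-- the value of the section -/
abbrev sec (U : X.Opens) : Γ(L, U) := PicF2.secVal L s U

theorem sec_res {U V : X.Opens} (h : V ≤ U) : res L h (sec s U) = sec s V :=
  (NatTrans.naturality_apply s.mapPresheaf (homOfLE h).op (1 : Γ(X, U))).symm.trans
    (congrArg (s.app V) (map_one (X.presheaf.map (homOfLE h).op).hom))

theorem app_eq_smul (U : X.Opens) (c : Γ(X, U)) : s.app U c = c • sec s U :=
  (congrArg (s.app U) (mul_one c).symm).trans (Scheme.Modules.Hom.app_smul s c (1 : Γ(X, U)))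

theorem eq_zero_of_sec (h : sec s ⊤ = 0) : s = 0 := by
  refine Scheme.Modules.hom_ext _ _ fun U => ?_
  refine ConcreteCategory.hom_ext _ _ fun c => ?_
  refine (app_eq_smul s U c).trans ?_
  show (show Γ(X, U) from c) • sec s U = 0
  rw [show sec s U = 0 from (sec_res s (le_top : U ≤ ⊤)).symm.trans ((congrArg _ h).trans (map_zero _)), smul_zero]

variable [IsIntegral X]

theorem eq_zero_of_smul (hL : PicF.IsInvertible L) (hs : sec s ⊤ ≠ 0) {V : X.Opens} (c : Γ(X, V))
    (hc : c • sec s V = 0) : c = 0 := by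
  by_contra hne
  have hV : (V : Set X).Nonempty := by
    by_contra hemp
    rw [Set.not_nonempty_iff_eq_empty] at hemp
    exact hne (TwistLib.mod_ext (Coh.structureModule X) (W := V) (s := c) (t := 0) fun x hx =>
      absurd (show x ∈ (V : Set X) from hx) (hemp ▸ id))
  have hbne : (X.basicOpen c : Set X).Nonempty := by
    by_contra hemp
    rw [Set.not_nonempty_iff_eq_empty] at hemp
    exact hne (eq_zero_of_basicOpen_eq_bot c (Opens.ext hemp))
  refine hs (GenusZeroLib.eq_zero_of_res hL (le_top : X.basicOpen c ≤ ⊤) hbne (sec s ⊤) ?_)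
  have hu : IsUnit (X.presheaf.map (homOfLE (X.basicOpen_le c)).op c) := RingedSpace.isUnit_res_basicOpen _ c
  refine hu.smul_eq_zero.mp ?_
  rw [sec_res s le_top, ← sec_res s (X.basicOpen_le c), ← res_smul, hc]
  exact map_zero _

/-- membership in the zero ideal is local -/
theorem mem_zeroIdealOn_of_local (hL : PicF.IsInvertible L) (hs : sec s ⊤ ≠ 0) {U : X.Opens} (a : Γ(X, U))
    (h : ∀ x ∈ U, ∃ (V : X.Opens) (hV : V ≤ U), x ∈ V ∧
      (X.presheaf.map (homOfLE hV).op a : Γ(X, V)) ∈ (PicF2.zeroIdealOn L s V : Ideal Γ(X, V))) :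
    (a : Γ(X, U)) ∈ (PicF2.zeroIdealOn L s U : Ideal Γ(X, U)) := by
  intro m
  choose V hV hxV hmem using h
  choose b hb using fun x : U => hmem x.1 x.2 (res L (hV x.1 x.2) m)
  let W : U → X.Opens := fun x => V x.1 x.2
  let bb : ∀ x : U, Γ(X, W x) := fun x => b x
  have hbb : ∀ x : U, res L (hV x.1 x.2) (a • (show Γ(L, U) from m)) = bb x • sec s (W x) := fun x =>
    (res_smul L (hV x.1 x.2) a m).trans (hb x)
  obtain ⟨β, hβ, -⟩ := X.sheaf.existsUnique_gluing' W U (fun x => homOfLE (hV x.1 x.2))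
    (fun y hy => Opens.mem_iSup.mpr ⟨⟨y, hy⟩, hxV y hy⟩) bb (fun x y => by
      refine sub_eq_zero.mp (eq_zero_of_smul s hL hs _ ?_)
      have h1 := congrArg (res L (inf_le_left : W x ⊓ W y ≤ W x)) (hbb x)
      have h2 := congrArg (res L (inf_le_right : W x ⊓ W y ≤ W y)) (hbb y)
      rw [res_smul _ _ (bb x), res_res, sec_res] at h1
      rw [res_smul _ _ (bb y), res_res, sec_res] at h2
      exact (sub_smul (R := Γ(X, W x ⊓ W y)) _ _ _).trans (sub_eq_zero.mpr (h1.symm.trans h2)))
  let β' : Γ(X, U) := β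
  refine ⟨β', TwistLib.mod_ext L fun x hx => ?_⟩
  have e1 : res L (hV x hx) (β' • sec s U) = bb ⟨x, hx⟩ • sec s (W ⟨x, hx⟩) := by
    rw [res_smul, sec_res]
    exact congrArg (· • _) (hβ ⟨x, hx⟩)
  have e2 := congrArg (L.presheaf.germ _ x (hxV x hx)) (e1.trans (hbb ⟨x, hx⟩).symm)
  rw [germ_res, germ_res] at e2
  exact e2.symm

end

variable (k : Type u) [Field k] (n : ℕ)

local notation "𝒜" => CohB1.polyGrading (n + 1) k
local notation "ℬ" => CohB1.polyGrading n k

variable (c : Fin (n + 2) → k) (p : Fin (n + 2))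

/-- the substitution eliminating `X p` with the equation `∑ cᵢ Xᵢ` -/
def phiFun : Fin (n + 2) → MvPolynomial (Fin (n + 1)) k :=
  Fin.insertNth (α := fun _ => MvPolynomial (Fin (n + 1)) k) p
    (∑ l, MvPolynomial.C (-(c p)⁻¹ * c (p.succAbove l)) * X l) X

theorem isHomogeneous_phiFun (i : Fin (n + 2)) : (phiFun k n c p i).IsHomogeneous 1 := by
  rcases Fin.eq_self_or_eq_succAbove p i with rfl | ⟨l, rfl⟩
  · rw [phiFun, Fin.insertNth_apply_same]
    exact IsHomogeneous.sum _ _ _ fun l _ => isHomogeneous_C_mul_X _ _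
  · rw [phiFun, Fin.insertNth_apply_succAbove]
    exact isHomogeneous_X k l

/-- the substitution as a graded map -/
def phi : 𝒜 →+*ᵍ ℬ :=
  { (MvPolynomial.aeval (phiFun k n c p)).toRingHom with
    map_mem := fun {i x} hx => by
      have h := IsHomogeneous.aeval hx (phiFun k n c p) (isHomogeneous_phiFun k n c p)
      rw [one_mul] at h
      exact h }

theorem phi_apply (x : MvPolynomial (Fin (n + 2)) k) : phi k n c p x = aeval (phiFun k n c p) x := rfl

theorem phi_surjective : Function.Surjective (phi k n c p) := fun y => ⟨rename p.succAbove y, by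
  rw [phi_apply, aeval_rename]
  have : (phiFun k n c p) ∘ p.succAbove = X := _root_.funext fun l => by simp [phiFun]
  rw [this, aeval_X_left_apply]⟩

theorem exists_phi_X_ne_zero (y : Proj ℬ) : ∃ i, y ∈ Proj.basicOpen ℬ (phi k n c p (X i)) := by
  obtain ⟨l, hl⟩ := cover (R := k) (n := n) y
  refine ⟨p.succAbove l, ?_⟩
  rwa [phi_apply, aeval_X, phiFun, Fin.insertNth_apply_succAbove]

variable {c p} (hp : c p ≠ 0)

/-- the equation -/
def form : MvPolynomial (Fin (n + 2)) k := ∑ i, MvPolynomial.C (c i) * X i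

theorem form_mem : (form k n (c := c)) ∈ 𝒜 1 :=
  IsHomogeneous.sum _ _ _ fun i _ => isHomogeneous_C_mul_X _ _

include hp in
theorem phi_form : phi k n c p (form k n (c := c)) = 0 := by
  have e : phi k n c p (form k n (c := c)) = ∑ i, MvPolynomial.C (c i) * phiFun k n c p i := by
    rw [phi_apply, show form k n (c := c) = ∑ i, MvPolynomial.C (c i) * X i from rfl, map_sum]
    refine Finset.sum_congr rfl fun i _ => ?_
    rw [map_mul, aeval_X, aeval_C]
    rfl
  have h1 : ∀ l, c p * (-(c p)⁻¹ * c (p.succAbove l)) = -c (p.succAbove l) := fun l => by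
    rw [← mul_assoc, mul_neg, mul_inv_cancel₀ hp, neg_one_mul]
  rw [e, Fin.sum_univ_succAbove _ p, phiFun, Fin.insertNth_apply_same, Finset.mul_sum]
  simp only [Fin.insertNth_apply_succAbove]
  rw [← Finset.sum_add_distrib]
  refine Finset.sum_eq_zero fun l _ => ?_
  have h2 : MvPolynomial.C (σ := Fin (n + 1)) (c p) * (MvPolynomial.C (-(c p)⁻¹ * c (p.succAbove l)) * X l) =
      MvPolynomial.C (-c (p.succAbove l)) * X l := by
    rw [← mul_assoc, ← map_mul, h1]
  rw [h2, map_neg, neg_mul, neg_add_cancel]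

include hp in
/-- the kernel of the substitution, in each degree -/
theorem exists_eq_form_mul {d : ℕ} {a : MvPolynomial (Fin (n + 2)) k} (ha : a ∈ 𝒜 d) (h : phi k n c p a = 0) :
    a = 0 ∨ ∃ (d' : ℕ) (b : MvPolynomial (Fin (n + 2)) k), b ∈ 𝒜 d' ∧ d = 1 + d' ∧ a = form k n (c := c) * b := by
  classical
  let ℓ := form k n (c := c)
  let I := Ideal.span {ℓ}
  let q := Ideal.Quotient.mkₐ k I
  have key : q.comp ((rename p.succAbove).comp (MvPolynomial.aeval (phiFun k n c p))) = q := by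
    refine MvPolynomial.algHom_ext fun i => ?_
    rcases Fin.eq_self_or_eq_succAbove p i with rfl | ⟨l, rfl⟩
    · simp only [AlgHom.comp_apply, aeval_X, phiFun, Fin.insertNth_apply_same]
      refine (Ideal.Quotient.eq.mpr (Ideal.mem_span_singleton'.mpr ⟨MvPolynomial.C (-(c i)⁻¹), ?_⟩))
      rw [show ℓ = ∑ l, MvPolynomial.C (c l) * X l from rfl, Fin.sum_univ_succAbove _ i, mul_add,
        map_sum, Finset.mul_sum]
      have h1 : MvPolynomial.C (-(c i)⁻¹) * (MvPolynomial.C (c i) * X i) = -X i := by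
        rw [← mul_assoc, ← map_mul, neg_mul, inv_mul_cancel₀ hp, map_neg, map_one, neg_one_mul]
      rw [h1, neg_add_eq_sub]
      congr 1
      refine Finset.sum_congr rfl fun l _ => ?_
      rw [map_mul, rename_C, rename_X, ← mul_assoc, ← map_mul]
    · simp only [AlgHom.comp_apply, aeval_X, phiFun, Fin.insertNth_apply_succAbove, rename_X]
  have h1 : q a = 0 := by
    rw [← AlgHom.congr_fun key a, AlgHom.comp_apply, AlgHom.comp_apply, ← phi_apply, h, map_zero, map_zero]
  obtain ⟨b, hb⟩ := Ideal.mem_span_singleton'.mp (Ideal.Quotient.eq_zero_iff_mem.mp h1)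
  have hdec := DirectSum.decompose_of_mem_same 𝒜 ha
  rw [← hb, mul_comm] at hdec
  rcases Nat.eq_zero_or_pos d with rfl | hd
  · left
    rw [DirectSum.coe_decompose_mul_of_left_mem_of_not_le 𝒜 (form_mem k n) (by omega)] at hdec
    rw [← hb, mul_comm, ← hdec]
  · right
    obtain ⟨d', rfl⟩ := Nat.exists_eq_add_of_le (show 1 ≤ d from hd)
    rw [DirectSum.coe_decompose_mul_of_left_mem_of_le 𝒜 (form_mem k n) (by omega), Nat.add_sub_cancel_left] at hdec
    exact ⟨d', _, SetLike.coe_mem _, rfl, (hb.symm.trans (mul_comm _ _)).trans hdec.symm⟩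

include hp in
/-- the ideal of the linear subspace on a chart -/
theorem mem_ker_iff (j : Fin (n + 2)) (hφ : HomogeneousIdeal.irrelevant ℬ ≤ (HomogeneousIdeal.irrelevant 𝒜).map (phi k n c p))
    (y : Γ(Proj 𝒜, Proj.basicOpen 𝒜 (X j))) :
    (Proj.map (phi k n c p) hφ).app (Proj.basicOpen 𝒜 (X j)) y = 0 ↔
      ∃ b, y = b * ProjClosedLib.fr 𝒜 (X_mem j) (form_mem k n (c := c)) := by
  obtain ⟨d, a, ha, rfl⟩ := ProjClosedLib.fr_surjective 𝒜 (X_mem j) y
  constructor
  · intro h
    obtain ⟨N, hN⟩ := (map_app_fr_eq_zero_iff _ hφ (X_mem j) ha).mp h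
    rcases mul_eq_zero.mp hN with hj | ha0
    · obtain ⟨hj0, -⟩ := pow_eq_zero_iff'.mp hj
      -- the chart misses the subspace
      rcases exists_eq_form_mul k n hp (X_mem j) hj0 with h0 | ⟨d', b, hb, hd', he⟩
      · exact absurd h0 (X_ne_zero j)
      obtain rfl : d' = 0 := by omega
      have hu : ProjClosedLib.fr 𝒜 (X_mem j) (form_mem k n (c := c)) * ProjClosedLib.fr 𝒜 (X_mem j) hb = 1 := by
        rw [← ProjClosedLib.fr_mul 𝒜 (X_mem j) (form_mem k n) hb,
          ProjClosedLib.fr_congr 𝒜 (X_mem j) (he.symm.trans (pow_one _).symm) _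
            (show X j ^ 1 ∈ 𝒜 1 by rw [pow_one]; exact X_mem j)]
        exact ProjClosedLib.fr_one 𝒜 (X_mem j) _
      exact ⟨ProjClosedLib.fr 𝒜 (X_mem j) ha * ProjClosedLib.fr 𝒜 (X_mem j) hb, by
        rw [mul_assoc, mul_comm (ProjClosedLib.fr 𝒜 (X_mem j) hb), hu, mul_one]⟩
    · rcases exists_eq_form_mul k n hp ha ha0 with rfl | ⟨d', b, hb, rfl, rfl⟩
      · exact ⟨0, by rw [zero_mul, ProjClosedLib.fr_zero]⟩
      · exact ⟨ProjClosedLib.fr 𝒜 (X_mem j) hb, by
          exact (ProjClosedLib.fr_mul 𝒜 (X_mem j) (form_mem k n) hb).trans (mul_comm _ _)⟩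
  · rintro ⟨b, hb⟩
    rw [hb, map_mul, (map_app_fr_eq_zero_iff _ hφ (X_mem j) (form_mem k n)).mpr
      ⟨0, by rw [phi_form k n hp, mul_zero]⟩, mul_zero]

end ProjSecLib

end
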